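import Cfsg.Agent.HZ.Gen.Blk
import Cfsg.Agent.LV.Blk.Gen
import Cfsg.Agent.Blocks.ClassSum
import Cfsg.Agent.CharactersDeep.ModCongr

/-!
# HZ/L, box BR: blocks and the restriction `rs` of a virtual character (helper90)

* `rs_block` : the block of a constituent of `rs r P φ` induces the block of a constituent of `φ`;
* `exists_up` : the congruence of the central characters at `reg r * Φ`.
-/

set_option autoImplicit false
set_option linter.unusedSectionVars false

namespace Cfsg.Agent.HZ.L.BR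

open Cfsg Subgroup Cfsg.Agent.Blocks.PPart Cfsg.Agent.OddOrderCharacters.VChar Cfsg.Agent.Characters Cfsg.Agent.H650
  Cfsg.Agent.H662 Cfsg.Agent.Blocks.Basic Cfsg.Agent.HZ.Gen Cfsg.Agent.Blocks.Local Cfsg.Agent.LV.Blk
open scoped ComplexConjugate

variable {H : Type*} [Group H] [Fintype H] {M : Ideal AlgInt} {r n N : ℕ} [Fact r.Prime] {P : Subgroup H} {φ : H → ℂ}

theorem rs_block (hB : Big H r n) (hP : IsPGroup r P) (hM : IsPModular r M) (hχ : Sm r N φ) (hb : bd n N < r)
    {K : Subgroup H} [Fintype K] (hK : K = centralizer P) (ψ : IrrCharacter K)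
    (h : classInner (rs r P φ ∘ K.subtype) ψ ≠ 0) : ∃ χ : IrrCharacter H, classInner φ χ ≠ 0 ∧
      IsInducedBlock M K (blockOf M (ψ : K → ℂ)) (blockOf M (χ : H → ℂ)) := by
  classical
  have := isPrime_of_isPModular hM
  have := Core.finite_irr (G := H)
  have := Fintype.ofFinite (IrrCharacter H)
  subst hK
  by_contra hn
  have h1 := gen_isClassFunction (hB.rs_gen hP hχ hb (subtype_injective _) (range_subtype _))
  have h2 := gen_isClassFunction (gen_restrict (centralizer (P : Set H)) hχ.gen)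
  have h3 := classInner_blockPart (blockOf M (ψ : _ → ℂ)) (rs r P φ ∘ (centralizer (P : Set H)).subtype) ψ
  rw [if_pos (mem_blockOf_self ψ), show blockPart _ _ = 0 from funext fun g => ?_] at h3
  · exact h (h3.symm.trans (by simp [classInner]))
  obtain ⟨a, ha, h4⟩ := hB.exists_gn hP (by have := two_mul_lt hb; omega) g.2
  obtain ⟨u, hu⟩ := exists_isPPart r (⟨a, hB.ab' hP ha⟩ * g)
  have h5 := h4 _ (isPPart_coe hu)
  have h6 := (S0925.result r M hM).1 (rs r P φ ∘ (centralizer (P : Set H)).subtype - fun k : centralizer (P : Set H) => φ k)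
    (fun x y => congrArg₂ (· - ·) (h1 x y) (h2 x y)) u hu.choose_spec.2.2.1 (fun w z hw hz => by
      obtain ⟨c, rfl⟩ := isConj_iff.1 hz
      refine sub_eq_zero.2 (hB.rs_gn hP hχ hb ((gn_iff (isPPart_coe hw)).2 fun x hx => ?_))
      have h7 := h5 (x := c.1⁻¹ * x * c) (mem_cen.2 (by simpa [mul_assoc] using (mem_cen.1 hx).map (MulAut.conj c.1⁻¹)))
      exact (mul_mem_cancel_left (inv_mem c.2)).1 ((mul_mem_cancel_right c.2).1 h7)) _ (isPBlock_blockOf ψ) _ u hu (IsConj.refl u)
  obtain ⟨y, h7, h8, h9, h10⟩ := hu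
  have h11 : blockPart (blockOf M (ψ : _ → ℂ)) (fun k : centralizer (P : Set H) => φ k) (u * y) = 0 := by
    rw [show (fun k : centralizer (P : Set H) => φ k) = ∑ χ : IrrCharacter H, classInner φ χ •
      fun k : centralizer (P : Set H) => (χ : H → ℂ) k from funext fun c => by
        rw [Finset.sum_apply]
        exact (congrFun (gen_eq_sum hχ.gen) _).trans (Finset.sum_apply _ _ _), bp_lin]
    refine Finset.sum_eq_zero fun χ _ => ?_
    by_cases e : classInner φ χ = 0
    · rw [e, zero_mul]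
    · rw [nagao hM h9 h5 (isPBlock_blockOf χ) (mem_blockOf_self χ) (isPBlock_blockOf ψ) (fun e' => hn ⟨χ, e, e'⟩) h8.symm h10,
        mul_zero]
  rw [blockPart_sub, Pi.sub_apply, ← h7, h11, sub_zero, h7, Blocks.BlockPart.blockPart_eq_sum _ h1] at h6
  rw [Blocks.BlockPart.blockPart_eq_sum _ h1]
  refine Eq.trans (Finset.sum_congr rfl fun k _ => congrArg _ ?_) h6
  refine (hB.rs_mul hP hχ hb (k * g).2 ha).symm.trans (congrArg _ ?_)
  exact (mul_assoc _ _ _).symm.trans ((congrArg (· * g.1) (k.2 a ha)).trans (mul_assoc _ _ _))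

theorem gen_congr (hM : IsPModular r M) {χ : H → ℂ} (hχ : IsGeneralizedCharacter H χ) {x y : H} (hc : Commute x y)
    (hx : ∃ j, orderOf x = r ^ j) (hy : ¬ r ∣ orderOf y) : MemLocalIdeal M (χ (x * y) - χ y) := by
  have := isPrime_of_isPModular hM
  have := @Fintype.ofFinite _ (Core.finite_irr (G := H))
  obtain ⟨m, rfl⟩ := Core.isGeneralizedCharacter_iff.1 hχ
  rw [Finset.sum_apply, Finset.sum_apply]
  refine memLocalIdeal_sum_sub_sum fun ψ _ => ?_
  rw [Pi.smul_apply, Pi.smul_apply, zsmul_eq_mul, zsmul_eq_mul, ← mul_sub]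
  have h1 := CharactersDeep.ModCongr.memLocalIdeal_character_sub hM ψ.2 (x * y) x ⟨y, rfl, hc, hx, hy⟩
  rw [inv_mul_cancel_left] at h1
  exact memLocalIdeal_mul_left (memLocalRing_intCast _) h1

theorem om_congr' [M.IsPrime] {χ a b : H → ℂ} (hχ : IsIrrCharacter H χ) (ha : IsClassFunction H a) (hb : IsClassFunction H b)
    (h : ∀ g, MemLocalIdeal M (conj (a g) - conj (b g))) : MemLocalIdeal M (om χ a - om χ b) := by
  classical
  have := Fintype.ofFinite (ConjClasses H)
  rw [om_eq_sum (irr_isClassFunction hχ) ha, om_eq_sum (irr_isClassFunction hχ) hb]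
  refine memLocalIdeal_sum_sub_sum fun c _ => ?_
  rw [← mul_sub]
  exact memLocalIdeal_mul_left (memLocalRing_of_isIntegral (Blocks.Central.isIntegral_centralChar hχ _)) (h _)

theorem reg_mul_cls {a : H → ℂ} (ha : IsClassFunction H a) : IsClassFunction H (reg r * a) := fun g h => by
  rw [Pi.mul_apply, Pi.mul_apply, reg_cls, ha]

/-- **The congruence.** -/
theorem exists_up (hB : Big H r n) (hP : IsPGroup r P) (hM : IsPModular r M) (hφ : Sm r N φ) (hb : bd n N < r)
    {L : Type*} [Group L] [Fintype L] {ι : L →* H} (hι : Function.Injective ι) (hL : ι.range = centralizer P) {ψ : L → ℂ}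
    (hψ : IsIrrCharacter L ψ) (h : classInner (rs r P φ ∘ ι) ψ ≠ 0) : ∃ χ, IsIrrCharacter H χ ∧ classInner φ χ ≠ 0 ∧
      ∀ N' Φ, Sm r N' Φ → bd n N' < r → MemLocalIdeal M (om χ (reg r * Φ) - om ψ (reg r * (rs r P Φ ∘ ι))) := by
  classical
  have := isPrime_of_isPModular hM
  have := Fintype.ofFinite ι.range
  let e : L ≃* ι.range := MonoidHom.ofInjective hι
  obtain ⟨χ, h1, h2⟩ := rs_block hB hP hM hφ hb hL (tr e ⟨ψ, hψ⟩) (by
    rw [← Clifford.classInner_comp_mulEquiv e, show _ ∘ e = ψ from funext fun x => tr_apply_map e ⟨ψ, hψ⟩ x]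
    exact h)
  refine ⟨χ, χ.2, h1, fun N' Φ hΦ hb' => ?_⟩
  have h3 := Blocks.ClassSum.memLocalIdeal_of_induced ι.range (irr_isClassFunction χ.2)
    (h2.2.2 _ (mem_blockOf_self _) _ (mem_blockOf_self _)) (f := fun g => conj ((reg r * Φ : H → ℂ) g))
    (fun g x => congrArg _ (reg_mul_cls (gen_cls hΦ.gen) g x))
    fun g => memLocalRing_of_isIntegral (int_conj ((reg_int r g).mul (gen_int hΦ.gen g)))
  have h4 := om_congr' (M := M) hψ (a := reg r * (Φ ∘ ι)) (b := reg r * (rs r P Φ ∘ ι))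
    (reg_mul_cls (gen_cls (gen_comp ι hΦ.gen))) (reg_mul_cls (gen_cls (hB.rs_gen hP hΦ hb' hι hL))) fun g => by
      by_cases hg : r ∣ orderOf g
      · rw [Pi.mul_apply, Pi.mul_apply, reg_of_not hg, zero_mul, zero_mul, sub_self]
        exact memLocalIdeal_zero
      have hm : ι g ∈ centralizer (P : Set H) := hL ▸ ⟨g, rfl⟩
      obtain ⟨a, ha, h5, -⟩ := hB.gel_spec hP (by have := two_mul_lt hb; omega) hm
      rw [Pi.mul_apply, Pi.mul_apply, reg_of hg, one_mul, one_mul, Function.comp_apply, Function.comp_apply, rs, h5]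
      exact memLocalIdeal_sub_comm (gen_congr hM (gen_conjFun hΦ.gen) (hm a ha) (ord_of_mem hP ha)
        (by rwa [orderOf_injective ι hι]))
  have h5 := memLocalIdeal_add (memLocalIdeal_sub_comm h3) h4
  convert h5 using 1
  rw [om_eq χ.1, om_eq ψ (reg r * (Φ ∘ ι)), ← Equiv.sum_comp e.toEquiv, Finset.sum_div, Finset.sum_div,
    Finset.sum_congr rfl (g := fun g => conj ((reg r * Φ : H → ℂ) g) * (χ.1 g / χ.1 1)) fun g _ => by ring,
    Finset.sum_congr rfl (f := fun x : L => conj ((reg r * Φ : H → ℂ) (e.toEquiv x : ι.range)) * _)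
      (g := fun x => ψ x * conj ((reg r * (Φ ∘ ι) : L → ℂ) x) / ψ 1) fun x _ => ?_]
  · ring
  · rw [MulEquiv.toEquiv_eq_coe, EquivLike.coe_coe, tr_apply_map, tr_apply_one, Pi.mul_apply, Pi.mul_apply,
      reg_congr (g := ((e x : ι.range) : H)) (h := x) (orderOf_injective ι hι x)]
    show _ * (ψ x / ψ 1) = ψ x * conj (_ * Φ (e x : ι.range)) / ψ 1
    ring

end Cfsg.Agent.HZ.L.BR
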