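import Cfsg.Agent.HZ.L.Bas
import Cfsg.Agent.HZ.L.BR.Gen

/-!
# HZ/L, box BR: the weights of the sets of labels are invariants of the `r`-blocks (helper90)
-/

set_option autoImplicit false
set_option linter.unusedSectionVars false

namespace Cfsg.Agent.HZ.L.BR

open Cfsg Cfsg.Agent.DL Cfsg.Agent.DL.PP Cfsg.Agent.DL.Uni Cfsg.Agent.DL.Asm Cfsg.Agent.Nodes.Reps Matrix
  Cfsg.Agent.KZ.Lie Cfsg.Agent.HZ.Gen Cfsg.Agent.Characters.Core Cfsg.Agent.Blocks.Local Cfsg.Agent.LV.Blk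

theorem fin2 {α β A : Type*} [AddCommMonoid A] (s : Finset (α × β)) (a : α → β → A) (h : ∀ x y, a x y ≠ 0 → (x, y) ∈ s) :
    ∑ᶠ (x : α) (y : β), a x y = ∑ z ∈ s, a z.1 z.2 := by
  have h1 : Function.support (fun z : α × β => a z.1 z.2) ⊆ s := fun z hz => h z.1 z.2 hz
  rw [← finsum_eq_sum_of_support_subset _ h1, finsum_curry _ (s.finite_toSet.subset h1)]

/-- the central character at the `r`-regular part of a function -/
noncomputable def Om {H : Type*} [Group H] [Fintype H] (r : ℕ) (χ : H → ℂ) : (H → ℂ) →+ ℂ where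
  toFun a := om χ (reg r * a)
  map_zero' := by rw [mul_zero, om, classInner_zero_right, mul_zero, zero_div]
  map_add' a b := by rw [mul_add, om, om, om, classInner_add_right, mul_add, add_div]

variable {p : ℕ} [Fact p.Prime] {k : Type} [Field k] [CharP k p] [IsAlgClosed k] {Y : Type} [Group Y] {N : Type}
  [Fintype N] [DecidableEq N] {ρ : Y →* GL N k} {F : MulAut Y} {G : Subgroup Y} {D : Datum p ρ F G}
  {v w w' : D.W} {c c' : Lbl D} {r : ℕ} {M : Ideal AlgInt} {Λ : Set (Lbl D)}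

theorem ordT_tc (h : Tc D v w w') : ordT D w = ordT D w' := by
  have h1 : D.Wm v * (D.Wm w * D.Mx - 1) = (D.Wm w' * D.Mx - 1) * D.Wm v := by
    rw [mul_sub, sub_mul, mul_one, one_mul, mul_assoc (D.Wm w'), D.Mx_Wm, ← mul_assoc, ← mul_assoc, ← D.Wm_mul,
      ← D.Wm_mul, show w' * D.Fw v = v * w from h]
  have h2 := congrArg (fun A => A.det.natAbs) h1
  simpa only [ordT, det_mul, Int.natAbs_mul, natAbs_det_Wm, one_mul, mul_one] using h2

variable (D) in
theorem W_pos : 0 < Nat.card D.W := Nat.card_pos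

theorem rel_unique (h : Rel D v c c') {c₁ : Lbl D} (h' : Rel D v c₁ c') : c₁ = c := eq_of_chr D fun x => by rw [← h, ← h']

theorem rel_order (h : Rel D v c c') : orderOf c = orderOf c' := by
  have key : ∀ {v : D.W} {c c' : Lbl D}, Rel D v c c' → orderOf c ∣ orderOf c' := fun h =>
    orderOf_dvd_of_pow_eq_one (eq_of_chr D fun x => by rw [map_pow, ← h, ← map_pow, pow_orderOf_eq_one, map_one, map_one])
  exact Nat.dvd_antisymm (key h) (key h.symm)

variable (D r Λ) in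
theorem finite_S : {x : D.W × Lbl D | Fx D x.1 x.2 ∧ x.2 ∈ Λ ∧ ¬ r ∣ orderOf x.2}.Finite := by
  refine ((Set.finite_univ (α := D.W)).biUnion fun w _ =>
    (Set.finite_coe_iff.1 (finite_Fx D w) : {c | Fx D w c}.Finite).image (Prod.mk w)).subset fun x hx => ?_
  exact Set.mem_biUnion (Set.mem_univ x.1) ⟨x.2, hx.1, rfl⟩

variable (D r Λ) in
/-- the pairs which count -/
noncomputable def S : Finset (D.W × Lbl D) := (finite_S D r Λ).toFinset

theorem mem_S {x : D.W × Lbl D} : x ∈ S D r Λ ↔ Fx D x.1 x.2 ∧ x.2 ∈ Λ ∧ ¬ r ∣ orderOf x.2 := Set.Finite.mem_toFinset _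

variable (D r) in
/-- the coefficients -/
noncomputable def co (w : D.W) : ℂ := sg D w * r ^ (ordT D w).factorization r / ordT D w

theorem co_ring (hM : IsPModular r M) (w : D.W) : MemLocalRing M (co D r w) := by
  have := isPrime_of_isPModular hM
  have h1 : co D r w = sg D w * ((ordT D w / r ^ (ordT D w).factorization r : ℕ) : ℂ)⁻¹ := by
    rw [co, Nat.cast_div (Nat.ordProj_dvd _ _) (Nat.cast_ne_zero.2 (pow_ne_zero _ hM.1.ne_zero)), inv_div, Nat.cast_pow,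
      mul_div_assoc]
  rw [h1]
  exact memLocalRing_mul (memLocalRing_intCast _) (memLocalRing_inv_natCast hM (Nat.not_dvd_ordCompl hM.1 (ordT_ne w)))

theorem co_tc (h : Tc D v w w') : co D r w = co D r w' := by rw [co, co, ordT_tc h, sg_tc D h]

theorem co_sub (s : Sb D) (u : s.E.W) : co D r (s.sw u * s.w) = sg D s.w * co s.E r u := by
  rw [co, co, show ordT s.E u = ordT D (s.sw u * s.w) by rw [ordT, ordT, s.WM_eq], sg_mul,
    show sg s.E u = sg D (s.sw u) by rw [sg, sg, s.Wm_eq]]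
  ring

variable [Fintype ↥(GF F G)] {f : Fr D} {χ : ↥(GF F G) → ℂ}

theorem mL_eq' (hr : r.Prime) (h : ∀ w c, Has f χ w c → ¬ r ∣ orderOf c) (hc : Fx D w c) (hc' : ¬ r ∣ orderOf c) :
    mL f r w c χ = classInner χ (RW f w c) := by
  have := Fintype.ofFinite (LV.Blk.LS D r w)
  rw [mL_sum f hc, Finset.sum_eq_single (1 : LV.Blk.LS D r w) (fun η _ hη => by_contra fun e => hη (Subtype.ext ?_))
    fun e => absurd (Finset.mem_univ _) e, Subgroup.coe_one, mul_one]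
  obtain ⟨j, hj⟩ := η.2.2
  refine (pow_eq_one_iff_of_coprime ((hr.coprime_iff_not_dvd.2 fun e' => (hr.dvd_mul.1 e').elim hc' (h w _ e)).pow_left j)).1
    ⟨hj, ?_⟩
  have h1 : (c * η) ^ (orderOf c * orderOf (c * η)) = 1 := by rw [mul_comm (orderOf c), pow_mul, pow_orderOf_eq_one, one_pow]
  rwa [mul_pow, pow_mul c, pow_orderOf_eq_one, one_pow, one_mul] at h1

/-- the central character of the idempotent of `Λ` -/
noncomputable def X (f : Fr D) (r : ℕ) (Λ : Set (Lbl D)) (χ : ↥(GF F G) → ℂ) : ℂ := ∑ x ∈ S D r Λ, co D r x.1 * Om r χ (RW f x.1 x.2)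

theorem X_ring (hM : IsPModular r M) (hχ : IsIrrCharacter _ χ) : MemLocalRing M (X f r Λ χ) :=
  have := isPrime_of_isPModular hM
  memLocalRing_sum fun _ _ => memLocalRing_mul (co_ring hM _)
    (memLocalRing_of_isIntegral (om_int hχ (regRW_cls f r _ _) (regRW_int f r _ _)))

theorem X_eq (hq : D.QS) (hr : r.Prime) (hp : r ≠ p) (hχ : IsIrrCharacter _ χ) (h : ∀ w c, Has f χ w c → ¬ r ∣ orderOf c) :
    X f r Λ χ = (Nat.card D.W * pc p (GF F G) : ℕ) * aL f Λ χ := by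
  classical
  have h0 := irr_one_ne hχ
  have h1 : (Nat.card D.W : ℂ) ≠ 0 := Nat.cast_ne_zero.2 Nat.card_pos.ne'
  rw [aL, fin2 (S D r Λ) _ fun w c e => ?_, Finset.mul_sum, Finset.sum_div, Finset.mul_sum]
  · refine Finset.sum_congr rfl fun x hx => ?_
    obtain ⟨h2, h3, h4⟩ := mem_S.1 hx
    have h5 := mL_eq f hr hp h2 h0
    have h6 := RW_deg f hq h2
    have h7 : (ordT D x.1 : ℂ) ≠ 0 := Nat.cast_ne_zero.2 (ordT_ne _)
    have h8 : (r : ℂ) ^ (ordT D x.1).factorization r ≠ 0 := pow_ne_zero _ (Nat.cast_ne_zero.2 hr.ne_zero)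
    rw [mL_eq' hr h h2 h4, ← pc_mul_pc' p, Nat.cast_mul] at h5
    rw [finsum_eq_if, if_pos h3, eq_div_of_mul_eq h7 h6, co, show Om r χ (RW f x.1 x.2) = _ from
      eq_div_of_mul_eq (mul_ne_zero h8 h0) ((mul_comm _ _).trans h5.symm), Nat.cast_mul]
    field_simp
  · rw [finsum_eq_if] at e
    split_ifs at e with hc
    · exact mem_S.2 ⟨Has.fx (left_ne_zero_of_mul e), hc, h w c (left_ne_zero_of_mul e)⟩
    · exact absurd rfl e

/-- the double count -/
theorem sum_res (hΛ : ∀ v c c', Rel D v c c' → c ∈ Λ → c' ∈ Λ) (s : Sb D) [Fintype ↥(GF F s.K)] (ψ : ↥(GF F s.K) → ℂ)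
    (a : D.W → Lbl D → ↥(GF F s.K) → ℂ) (h : ∀ w c, ¬ r ∣ orderOf c → ∀ g, a w c g = (Nat.card s.E.W : ℂ)⁻¹ *
      ∑ᶠ (v : D.W) (u : s.E.W) (c' : Lbl D) (_ : Tc D v w (s.sw u * s.w) ∧ Rel D v c c'), RW (s.fr f) u c' g) :
    Nat.card s.E.W * ∑ x ∈ S D r Λ, co D r x.1 * Om r ψ (a x.1 x.2) =
      Nat.card D.W * (sg D s.w * X (s.fr f) r Λ ψ) := by
  classical
  have := Fintype.ofFinite D.W
  have h1 : ∀ x ∈ S D r Λ, Nat.card s.E.W • a x.1 x.2 = ∑ v, ∑ y ∈ S s.E r Λ,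
      if Tc D v x.1 (s.sw y.1 * s.w) ∧ Rel D v x.2 y.2 then RW (s.fr f) y.1 y.2 else 0 := fun x hx => funext fun g => by
    obtain ⟨h2, h3, h4⟩ := mem_S.1 hx
    rw [Pi.smul_apply, h _ _ h4, nsmul_eq_mul, mul_inv_cancel_left₀ (Nat.cast_ne_zero.2 (W_pos s.E).ne'),
      finsum_eq_sum_of_fintype, Finset.sum_apply]
    refine Finset.sum_congr rfl fun v _ => ?_
    rw [fin2 (S s.E r Λ) _ fun u c' e => ?_, Finset.sum_apply]
    · exact Finset.sum_congr rfl fun y _ => by rw [finsum_eq_if, ite_apply, Pi.zero_apply]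
    · rw [finsum_eq_if] at e
      split_ifs at e with hc
      · exact mem_S.2 ⟨s.fx_iff.2 (fx_of_tc hc.1 hc.2 h2), hΛ _ _ _ hc.2 h3, rel_order hc.2 ▸ h4⟩
      · exact absurd rfl e
  rw [Finset.mul_sum, Finset.sum_congr rfl (g := fun x => ∑ v, ∑ y ∈ S s.E r Λ,
    if Tc D v x.1 (s.sw y.1 * s.w) ∧ Rel D v x.2 y.2 then sg D s.w * (co s.E r y.1 * Om r ψ (RW (s.fr f) y.1 y.2)) else 0)
      fun x hx => ?_, Finset.sum_comm, Finset.sum_congr rfl (g := fun _ => sg D s.w * X (s.fr f) r Λ ψ) fun v _ => ?_,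
    Finset.sum_const, Finset.card_univ, Nat.card_eq_fintype_card, nsmul_eq_mul]
  · rw [Finset.sum_comm, X, Finset.mul_sum]
    refine Finset.sum_congr rfl fun y hy => ?_
    obtain ⟨h2, h3, h4⟩ := mem_S.1 hy
    have h5 : Tc D v (v⁻¹ * (s.sw y.1 * s.w) * D.Fw v) (s.sw y.1 * s.w) := by
      show _ = _
      group
    have h6 : Rel D v (mon (D.Wm v)ᵀ y.2) y.2 := fun x => (chr_tr D _ _ _).symm
    rw [Finset.sum_eq_single_of_mem (v⁻¹ * (s.sw y.1 * s.w) * D.Fw v, mon (D.Wm v)ᵀ y.2)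
      (mem_S.2 ⟨fx_of_tc h5.symm h6.symm (s.fx_iff.1 h2), hΛ _ _ _ h6.symm h3, (rel_order h6).symm ▸ h4⟩)
      fun x _ hx => if_neg fun e => hx (Prod.ext (mul_left_cancel (a := v) ((Eq.symm e.1).trans h5)) (rel_unique h6 e.2)),
      if_pos ⟨h5, h6⟩]
  · rw [mul_left_comm, ← nsmul_eq_mul, ← map_nsmul, h1 x hx, map_sum, Finset.mul_sum]
    refine Finset.sum_congr rfl fun v _ => ?_
    rw [map_sum, Finset.mul_sum]
    refine Finset.sum_congr rfl fun y _ => ?_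
    split_ifs with e
    · rw [co_tc e.1, co_sub, mul_assoc]
    · rw [map_zero, mul_zero]

theorem num {n m w : ℕ} (hw : 0 < w) (h : w ≤ n) : 2 * n * m * w + 1 ≤ bd n (m + w) ∧ w < bd n (m + w) := by
  have h1 : 1 + n * (m + w) ≤ 2 ^ (n * n) + 4 ^ (n * n) * n * (m + w) := by
    rw [mul_assoc]
    exact Nat.add_le_add Nat.one_le_two_pow (Nat.le_mul_of_pos_left _ (pow_pos four_pos _))
  have h2 := Nat.pow_le_pow_left h1 2
  have h3 : n * (m * w) ≤ n * m * (n * w) := by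
    rw [mul_assoc n m]
    exact Nat.mul_le_mul_left _ (Nat.mul_le_mul_left _ (Nat.le_mul_of_pos_left _ (hw.trans_le h)))
  have h4 : w ≤ n * w := Nat.le_mul_of_pos_left _ (hw.trans_le h)
  rw [mul_add] at h2
  rw [show 2 * n * m * w = 2 * (n * (m * w)) by ring]
  generalize n * (m * w) = z at h3
  generalize n * m = x at h2 h3
  generalize n * w = y at h2 h3 h4
  exact ⟨le_trans (by nlinarith) h2, lt_of_lt_of_le (by nlinarith) h2⟩

variable (D) in
/-- **BR** -/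
theorem boxBR (h : AllD p fun D => BoxChf D) : BoxBR D := by
  intro hq f r _ P s _ hp hs B φ hφ hb M hM ψ hψ h0
  have := isPrime_of_isPModular hM
  have hr := hM.1
  obtain ⟨n1, n2⟩ := num (m := B) Nat.card_pos (card_le_nb D)
  have hW : ¬ r ∣ Nat.card D.W := fun e => by have := Nat.le_of_dvd Nat.card_pos e; omega
  have hW' : ¬ r ∣ Nat.card s.E.W := fun e => by have := Nat.le_of_dvd (W_pos s.E) e; have := s.card_le; omega
  have hB := big_GF D hp hW
  have b1 : bd (nb D) B < r := (bd_mono le_rfl (Nat.le_add_right _ _)).trans_lt hb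
  have b2 : bd (nb D) (Nat.card D.W) < r := (bd_mono le_rfl (Nat.le_add_left _ _)).trans_lt hb
  obtain ⟨χ, hχ, h1, h2⟩ := exists_up hB hs.grp hM hφ b1 s.ι_injective hs.range hψ h0
  have h3 := (h D hq).lab f r B φ hφ (by have := nb_pos D; nlinarith) χ hχ h1
  have h4 := (h s.E hs.qs).lab (s.fr f) r _ _ (hB.sm_rs hs.grp hφ b1 s.ι_injective hs.range)
    (lt_of_le_of_lt (Nat.succ_le_succ (Nat.mul_le_mul_left _ s.card_le)) (n1.trans_lt hb)) ψ hψ h0
  have hu : ∀ {n : ℕ} (H : Subgroup Y), ¬ r ∣ n → ¬ r ∣ n * pc p H := fun H hn e => (hr.dvd_mul.1 e).elim hn fun e' =>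
    hp ((Nat.prime_dvd_prime_iff_eq hr Fact.out).1 (hr.dvd_of_dvd_pow e'))
  have key : ∀ Λ : Set (Lbl D), (∀ v c c', Rel D v c c' → c ∈ Λ → c' ∈ Λ) → MemLocalIdeal M
      ((Nat.card D.W * pc p (GF F G) : ℕ) * aL f Λ χ - Nat.card D.W * sg D s.w * pc p (GF F s.K) * aL (s.fr f) Λ ψ) := by
    intro Λ hΛ
    have h5 := sum_res hΛ s ψ (fun w c => s.rs r P (RW f w c)) ((h D hq).res f r P s hp hs b2)
    rw [X_eq hs.qs hr hp hψ h4] at h5
    have h6 : MemLocalIdeal M (X f r Λ χ - ∑ x ∈ S D r Λ, co D r x.1 * Om r ψ (s.rs r P (RW f x.1 x.2))) :=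
      memLocalIdeal_sum_sub_sum fun x hx => by
        rw [← mul_sub]
        exact memLocalIdeal_mul_left (co_ring hM _) (h2 _ _ ((h D hq).sm f r hp _ _ (mem_S.1 hx).2.2) b2)
    rw [X_eq hq hr hp hχ h3] at h6
    convert h6 using 2
    refine mul_left_cancel₀ (Nat.cast_ne_zero.2 (W_pos s.E).ne' : (_ : ℂ) ≠ 0) ?_
    rw [h5, Nat.cast_mul]
    ring
  refine ⟨χ, hχ, h1, fun Λ hΛ => ?_⟩
  have hz : ∀ {n : ℕ}, ¬ r ∣ n → (n : ℂ) ≠ 0 := fun hn => Nat.cast_ne_zero.2 fun e => hn (e ▸ dvd_zero r)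
  have h5 := key Set.univ fun _ _ _ _ _ => trivial
  rw [aL_eq_one hχ fun _ _ _ => Set.mem_univ _, aL_eq_one hψ fun _ _ _ => Set.mem_univ _] at h5
  have h6 := memLocalRing_mul (memLocalRing_inv_natCast hM (hu (GF F s.K) hW')) (X_ring (D := s.E) (f := s.fr f) (Λ := Λ) hM hψ)
  rw [X_eq hs.qs hr hp hψ h4, inv_mul_cancel_left₀ (hz (hu (GF F s.K) hW'))] at h6
  have h7 := memLocalIdeal_mul_left (memLocalRing_inv_natCast hM (hu (GF F G) hW))
    (memLocalIdeal_sub (key Λ hΛ) (memLocalIdeal_mul_right h5 h6))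
  convert h7 using 1
  have h8 := hz (hu (GF F G) hW)
  field_simp
  ring

end Cfsg.Agent.HZ.L.BR
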